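import Cfsg.Agent.H962.E7.Def
import Mathlib

/-!
# Facts on `E₈(u)` used in S3482 (helper500; proved by helper962)
-/

set_option autoImplicit false

namespace Cfsg.Agent.H500.E7

open Cfsg.Agent.H436

universe u

/-- the classes of the isolated tori of `E₈(u)` -/
def I8 : Finset ℕ := {15, 20, 24, 30}

/-- the value of a cyclotomic polynomial -/
noncomputable def Ph (i u : ℕ) : ℕ := ((Polynomial.cyclotomic i ℤ).eval (u : ℤ)).natAbs

/-- what is used of `S = E₈(u)`, `u` a power of `v` -/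
structure FE8 (v u : ℕ) (S : Type*) [Group S] : Prop where
  /-- `r` divides `|E₇(u)|`, an element of order `r` centralises a root subgroup `SL₂(u)` -/
  low : ∀ r : ℕ, r.Prime → r ∣ Nat.card S → r ≠ v → (∀ i ∈ I8, ¬ Prim u i r) →
    ∃ x : S, orderOf x = r ∧ ∀ n ∈ ({v, u - 1, u + 1} : Finset ℕ), ∃ y : S, orderOf y = n ∧ Commute x y
  vtwo : v ≠ 2 → ∃ x : S, orderOf x = 2 * v
  exi : ∀ i ∈ I8, ∃ x : S, orderOf x = Ph i u
  top : ∀ i ∈ I8, ∀ (x : S) (r : ℕ), Prim u i r → r ∣ orderOf x → orderOf x ∣ Ph i u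

end Cfsg.Agent.H500.E7
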