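import Cfsg.Agent.H500.E7.Num
import Cfsg.Agent.H627.E7.Common

/-!
# S3482, R10 : `S = E₈(u)`, the classes 7, 9, 14, 18 of `q` (helper500)
-/

set_option autoImplicit false

namespace Cfsg.Agent.H500.E7

open Cfsg.Agent.H436 Cfsg.Agent.H962.E7 Cfsg.Agent.H627.E7

universe w

/-! ### tori of `E₇(q)` -/

/-- `TT q i = NN q i * C` with `C ≤ 7 (q + 1) / 2`, resp. `7 (q + 1)` -/
theorem TT_two {q : ℕ} (hq : 2 ≤ q) (ho : q % 2 = 1) :
    2 * TT q 7 = q ^ 7 - 1 ∧ 2 * TT q 9 = (q - 1) * (q ^ 6 + q ^ 3 + 1) ∧ 2 * TT q 14 = q ^ 7 + 1 ∧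
      2 * TT q 18 = (q + 1) * (q ^ 6 - q ^ 3 + 1) := by
  have e : Nat.gcd 2 (q - 1) = 2 := Nat.gcd_eq_left (by omega)
  obtain ⟨a, rfl⟩ : ∃ a, q = 2 * a + 1 := ⟨q / 2, by omega⟩
  have h1 : 1 ≤ (2 * a + 1) ^ 7 := Nat.one_le_pow _ _ (by omega)
  have h7 : 2 ∣ (2 * a + 1) ^ 7 - 1 := by
    have h2 := Nat.sub_dvd_pow_sub_pow (2 * a + 1) 1 7
    rw [one_pow, Nat.add_sub_cancel] at h2
    exact (Dvd.intro _ rfl).trans h2
  refine ⟨?_, ?_, ?_, ?_⟩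
  · rw [TT, if_pos rfl, e]
    exact Nat.mul_div_cancel' h7
  · rw [TT, if_neg (by norm_num), if_pos rfl, e]
    refine Nat.mul_div_cancel' (Dvd.dvd.mul_right ?_ _)
    rw [Nat.add_sub_cancel]
    exact Dvd.intro _ rfl
  · rw [TT, if_neg (by norm_num), if_neg (by norm_num), if_pos rfl, e]
    refine Nat.mul_div_cancel' ?_
    have h2 : (2 * a + 1) ^ 7 + 1 = ((2 * a + 1) ^ 7 - 1) + 2 := by omega
    rw [h2]
    exact (Nat.dvd_add_right h7).2 (dvd_refl 2)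
  · rw [TT, if_neg (by norm_num), if_neg (by norm_num), if_neg (by norm_num), if_pos rfl, e]
    refine Nat.mul_div_cancel' (Dvd.dvd.mul_right ?_ _)
    exact ⟨a + 1, by ring⟩

theorem TT_one {q : ℕ} (hq : 2 ≤ q) (ho : q % 2 = 0) :
    TT q 7 = q ^ 7 - 1 ∧ TT q 14 = q ^ 7 + 1 := by
  have e : Nat.gcd 2 (q - 1) = 1 := by
    have h1 : ¬ 2 ∣ q - 1 := by omega
    exact (Nat.Prime.coprime_iff_not_dvd Nat.prime_two).2 h1
  refine ⟨?_, ?_⟩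
  · rw [TT, if_pos rfl, e, Nat.div_one]
  · rw [TT, if_neg (by norm_num), if_neg (by norm_num), if_pos rfl, e, Nat.div_one]

/-- `NN` -/
theorem NN_mul {q : ℕ} (hq : 2 ≤ q) :
    (∃ g, 1 ≤ g ∧ g ≤ 7 ∧ NN q 7 * ((q - 1) * g) = q ^ 7 - 1) ∧
      (∃ g, 1 ≤ g ∧ g ≤ 3 ∧ NN q 9 * g = q ^ 6 + q ^ 3 + 1) ∧
      (∃ g, 1 ≤ g ∧ g ≤ 7 ∧ NN q 14 * ((q + 1) * g) = q ^ 7 + 1) ∧
      (∃ g, 1 ≤ g ∧ g ≤ 3 ∧ NN q 18 * g = q ^ 6 - q ^ 3 + 1) := by
  have hq1 : 1 ≤ q := by omega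
  have key : ∀ e, e ∈ C4 → ∃ g, 1 ≤ g ∧ g ≤ H563.KG.cc e ∧ NN q e * g = H563.KG.Ph e q := by
    intro e he
    have hc : 0 < H563.KG.cc e := by
      rw [mem_C4] at he
      rcases he with rfl | rfl | rfl | rfl <;> decide
    refine ⟨Nat.gcd (H563.KG.cc e) (H563.KG.Ph e q), Nat.gcd_pos_of_pos_left _ hc, Nat.gcd_le_left _ hc, ?_⟩
    rw [NN_eq_ncl he hq]
    exact Nat.div_mul_cancel (Nat.gcd_dvd_right _ _)
  refine ⟨?_, ?_, ?_, ?_⟩
  · obtain ⟨g, h1, h2, h3⟩ := key 7 (by decide)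
    refine ⟨g, h1, h2, ?_⟩
    rw [← Ph7_mul hq1, ← h3]
    ring
  · obtain ⟨g, h1, h2, h3⟩ := key 9 (by decide)
    exact ⟨g, h1, h2, h3⟩
  · obtain ⟨g, h1, h2, h3⟩ := key 14 (by decide)
    refine ⟨g, h1, h2, ?_⟩
    rw [← Ph14_mul hq1, ← h3]
    ring
  · obtain ⟨g, h1, h2, h3⟩ := key 18 (by decide)
    refine ⟨g, h1, h2, ?_⟩
    rw [h3]
    have h1 := Nat.pow_le_pow_right hq1 (show 3 ≤ 6 by norm_num)
    change (q ^ 6 + 1) - q ^ 3 = _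
    omega

/-! ### groups -/

variable {p k v u : ℕ} {S : Type w} [Group S] [Finite S]

/-- `w` is a prime of one of the isolated classes -/
def Iso8 (u w : ℕ) : Prop := ∃ a ∈ I8, Prim u a w

theorem prim_dvd_Ph {a w : ℕ} (hu : 2 ≤ u) (ha : a ∈ I8) (h : Prim u a w) : w ∣ Ph a u := by
  have ha0 : 0 < a := by
    rw [mem_I8] at ha
    omega
  have h1 := h.dvd (dvd_refl a)
  rw [← Cfsg.Agent.H416.Arith.prod_c ha0 hu, h.prime.prime.dvd_finset_prod_iff] at h1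
  obtain ⟨d, hd, hw⟩ := h1
  have hd' := Nat.mem_divisors.1 hd
  have hd0 : 0 < d := Nat.pos_of_mem_divisors hd
  have h2 := hw.trans (Cfsg.Agent.H416.Arith.c_dvd hd0 hu (dvd_refl d))
  have h3 := (h.dvd_iff d).1 h2
  have h4 := Nat.dvd_antisymm hd'.1 h3
  rw [h4] at hw
  exact hw

theorem exists_mul {G : Type*} [Group G] [Finite G] {x : G} {r s : ℕ} (hr : r.Prime) (hs : s.Prime) (hrs : r ≠ s)
    (h1 : r ∣ orderOf x) (h2 : s ∣ orderOf x) : ∃ z : G, orderOf z = r * s := by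
  obtain ⟨m, hm⟩ := Nat.Coprime.mul_dvd_of_dvd_of_dvd ((Nat.coprime_primes hr hs).2 hrs) h1 h2
  have h0 : 0 < orderOf x := orderOf_pos x
  have hm0 : m ≠ 0 := by
    rintro rfl
    rw [mul_zero] at hm
    omega
  refine ⟨x ^ m, ?_⟩
  rw [orderOf_pow_of_dvd hm0 (by rw [hm]; exact dvd_mul_left _ _), hm, Nat.mul_div_cancel _ (Nat.pos_of_ne_zero hm0)]

theorem exists_mul_of_comm {G : Type*} [Group G] [Finite G] {x y : G} {r s n : ℕ} (hr : r.Prime) (hs : s.Prime)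
    (hrs : r ≠ s) (hx : orderOf x = r) (hy : orderOf y = n) (hsn : s ∣ n) (hc : Commute x y) :
    ∃ z : G, orderOf z = r * s := by
  have h0 : 0 < orderOf y := orderOf_pos y
  obtain ⟨m, hm⟩ := hsn
  have hm0 : m ≠ 0 := by
    rintro rfl
    rw [mul_zero] at hm
    omega
  have h1 : orderOf (y ^ m) = s := by
    rw [orderOf_pow_of_dvd hm0 (by rw [hy, hm]; exact dvd_mul_left _ _), hy, hm,
      Nat.mul_div_cancel _ (Nat.pos_of_ne_zero hm0)]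
  refine ⟨x * y ^ m, ?_⟩
  rw [(hc.pow_right m).orderOf_mul_eq_mul_orderOf_of_coprime (by rw [hx, h1]; exact (Nat.coprime_primes hr hs).2 hrs),
    hx, h1]

/-- the primes which are not isolated -/
theorem low_mul (E : FE8 v u S) {r s : ℕ} (hr : r.Prime) (hrS : r ∣ Nat.card S) (hrv : r ≠ v) (hri : ¬ Iso8 u r)
    (hs : s.Prime) (hsv : s ∣ v ∨ s ∣ u - 1 ∨ s ∣ u + 1) (hsr : r ≠ s) : ∃ z : S, orderOf z = r * s := by
  obtain ⟨x, hx, hy⟩ := E.low r hr hrS hrv fun i hi h => hri ⟨i, hi, h⟩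
  rcases hsv with h | h | h
  · obtain ⟨y, hy1, hy2⟩ := hy v (by simp)
    exact exists_mul_of_comm hr hs hsr hx hy1 h hy2
  · obtain ⟨y, hy1, hy2⟩ := hy (u - 1) (by simp)
    exact exists_mul_of_comm hr hs hsr hx hy1 h hy2
  · obtain ⟨y, hy1, hy2⟩ := hy (u + 1) (by simp)
    exact exists_mul_of_comm hr hs hsr hx hy1 h hy2

/-- primes not adjacent to 2 are isolated -/
theorem iso_of_nadj (E : FE8 v u S) (hv : v.Prime) (hu : ∃ f, 1 ≤ f ∧ u = v ^ f) {r : ℕ} (hr : r.Prime)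
    (hrS : r ∣ Nat.card S) (hr2 : r ≠ 2) (h : ¬ ∃ x : S, orderOf x = 2 * r) : Iso8 u r := by
  by_contra hi
  by_cases hrv : r = v
  · subst hrv
    exact h (E.vtwo hr2)
  · have h2 : 2 ∣ v ∨ 2 ∣ u - 1 ∨ 2 ∣ u + 1 := by
      rcases hv.eq_two_or_odd with h1 | h1
      · left; rw [h1]
      · right; left
        obtain ⟨f, -, rfl⟩ := hu
        have h3 : v ^ f % 2 = 1 := by rw [Nat.pow_mod, h1, one_pow]; rfl
        omega
    obtain ⟨z, hz⟩ := low_mul E hr hrS hrv hi Nat.prime_two h2 hr2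
    exact h ⟨z, by rw [hz, mul_comm]⟩

/-- the order of the torus of `E₈(u)` -/
theorem tor_dvd (R : Row p k S) (E : FE8 v u S) (hu2 : 2 ≤ u) {i a r : ℕ} (hi : i ∈ C4) (hr : Prim (p ^ k) i r) (ha : a ∈ I8)
    (hra : Prim u a r) : Ph a u ∣ TT (p ^ k) i := by
  obtain ⟨x, hx⟩ := E.exi a ha
  rw [← hx]
  refine R.tor i hi x r hr ?_
  rw [hx]
  exact prim_dvd_Ph hu2 ha hra

theorem NN_dvd (R : Row p k S) (E : FE8 v u S) {i a r : ℕ} (hi : i ∈ C4) (hr : Prim (p ^ k) i r) (hF : Fl S (p ^ k) i)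
    (ha : a ∈ I8) (hra : Prim u a r) : NN (p ^ k) i ∣ Ph a u := by
  obtain ⟨x, hx⟩ := hF.elt hi
  rw [← hx]
  refine E.top a ha x r hra ?_
  rw [hx]
  exact dvd_NN hi (two_le R) hr

theorem ne_class (R : Row p k S) (E : FE8 v u S) (hu2 : 2 ≤ u) {i j a r s : ℕ} (hi : i ∈ C8) (hj : j ∈ C8) (hij : i ≠ j)
    (hr : Prim (p ^ k) i r) (hs : Prim (p ^ k) j s) (ha : a ∈ I8) (hra : Prim u a r) (hsa : Prim u a s) : False := by
  obtain ⟨x, hx⟩ := E.exi a ha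
  refine R.nad i hi j hj hij r s hr hs ?_
  refine exists_mul hr.prime hs.prime ?_ (x := x) ?_ ?_
  · rintro rfl
    exact hij (hr.unique hs)
  · rw [hx]; exact prim_dvd_Ph hu2 ha hra
  · rw [hx]; exact prim_dvd_Ph hu2 ha hsa

theorem abs_sub_le' {X Z C : ℤ} (h1 : 0 ≤ X) (h2 : X ≤ C) (h3 : 0 ≤ Z) (h4 : Z ≤ C) : |X - Z| ≤ C := by
  rw [abs_le]
  constructor <;> linarith

/-- **`p = 2`** -/
theorem row_two (R : Row p k S) (E : FE8 v u S) (hv : v.Prime) (hu : ∃ f, 1 ≤ f ∧ u = v ^ f) (hpv : p ≠ v)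
    (hp2 : p = 2) : False := by
  have hq2 := two_le R
  have hqe := q_even R hp2
  obtain ⟨q, hq⟩ : ∃ q, q = p ^ k := ⟨_, rfl⟩
  have hv3 : 3 ≤ v := by
    have := hv.two_le
    omega
  have hodd : v % 2 = 1 := by
    rcases hv.eq_two_or_odd with h1 | h1
    · exact absurd (hp2.trans h1.symm) hpv
    · exact h1
  have huo : u % 2 = 1 := by
    obtain ⟨f, -, rfl⟩ := hu
    rw [Nat.pow_mod, hodd, one_pow]; rfl
  have hu3 : 3 ≤ u := by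
    obtain ⟨f, hf, rfl⟩ := hu
    exact hv3.trans (Nat.le_self_pow (by omega) v)
  have hu2 : 2 ≤ u := by omega
  obtain ⟨r, hr⟩ := exists_prim8 (i := 14) (by decide) hq2
  obtain ⟨s, hs⟩ := exists_prim8 (i := 7) (by decide) hq2
  have hF14 := fl R (i := 14) (by decide) (Or.inl hp2)
  have hF7 := fl R (i := 7) (by decide) (Or.inl hp2)
  obtain ⟨a, ha, hra⟩ := iso_of_nadj E hv hu hr.prime (hF14.dvd r hr) (by
    have := three_lt (i := 14) (by decide) hq2 hr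
    omega) (nadj_two R (by decide) (Or.inl hp2) hr)
  obtain ⟨c, hc, hsc⟩ := iso_of_nadj E hv hu hs.prime (hF7.dvd s hs) (by
    have := three_lt (i := 7) (by decide) hq2 hs
    omega) (nadj_two R (by decide) (Or.inl hp2) hs)
  obtain ⟨X, hX⟩ := tor_dvd R E hu2 (i := 14) (by decide) hr ha hra
  obtain ⟨Z, hZ⟩ := tor_dvd R E hu2 (i := 7) (by decide) hs hc hsc
  have hNa := NN_dvd R E (i := 14) (by decide) hr hF14 ha hra
  have hNc := NN_dvd R E (i := 7) (by decide) hs hF7 hc hsc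
  rw [← hq] at hX hZ hNa hNc hq2 hqe
  obtain ⟨hT7, hT14⟩ := TT_one hq2 hqe
  obtain ⟨⟨g7, g71, g72, g73⟩, -, ⟨g14, g141, g142, g143⟩, -⟩ := NN_mul hq2
  have hPa : 0 < Ph a u := Cfsg.Agent.H416.Arith.c_pos a hu2
  have hPc : 0 < Ph c u := Cfsg.Agent.H416.Arith.c_pos c hu2
  have hq7 : 1 ≤ q ^ 7 := Nat.one_le_pow _ _ (by omega)
  have hNap : 0 < NN q 14 := NN_pos (by decide) hq2
  have hNcp : 0 < NN q 7 := NN_pos (by decide) hq2
  -- bounds for `X`, `Z`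
  have hXb : X ≤ 7 * (q + 1) := by
    have h1 : NN q 14 * X ≤ NN q 14 * ((q + 1) * g14) := by
      rw [g143, ← hT14, hX]
      exact Nat.mul_le_mul_right _ (Nat.le_of_dvd hPa hNa)
    have h2 := Nat.le_of_mul_le_mul_left h1 hNap
    nlinarith
  have hZb : Z ≤ 7 * (q + 1) := by
    have h1 : NN q 7 * Z ≤ NN q 7 * ((q - 1) * g7) := by
      rw [g73, ← hT7, hZ]
      exact Nat.mul_le_mul_right _ (Nat.le_of_dvd hPc hNc)
    have h2 := Nat.le_of_mul_le_mul_left h1 hNcp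
    have h3 : (q - 1) * g7 ≤ (q + 1) * 7 := Nat.mul_le_mul (by omega) g72
    omega
  have heq : (X : ℤ) * (Ph a u : ℤ) - (Z : ℤ) * (Ph c u : ℤ) = 2 := by
    have h1 : ((Ph a u * X : ℕ) : ℤ) = ((q ^ 7 + 1 : ℕ) : ℤ) := by rw [← hX, hT14]
    have h2 : ((Ph c u * Z : ℕ) : ℤ) = ((q ^ 7 - 1 : ℕ) : ℤ) := by rw [← hZ, hT7]
    rw [Nat.cast_sub hq7] at h2
    push_cast at h1 h2
    linarith
  obtain ⟨t, ht⟩ := key ha hc hu2 heq
  have habs : |(X : ℤ) - Z| ≤ 7 * ((q : ℤ) + 1) :=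
    abs_sub_le' (Int.natCast_nonneg _) (by exact_mod_cast hXb) (Int.natCast_nonneg _) (by exact_mod_cast hZb)
  have hbd := (Ph_bd ha hu2).2
  have hq6 : 7 ≤ q → (q : ℤ) ^ 6 ≤ 8 * ((u : ℤ) ^ 7 * ((u : ℤ) + 1)) := by
    intro h7
    have h1 := q_le (i := 14) (Or.inl rfl) h7
    have h2 := Nat.le_of_dvd hPa hNa
    have h3 : q ^ 6 ≤ 8 * Ph a u := h1.trans (Nat.mul_le_mul_left _ h2)
    have h4 : (q : ℤ) ^ 6 ≤ 8 * (Ph a u : ℤ) := by exact_mod_cast h3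
    linarith
  have hcases : u = 3 ∨ u = 5 ∨ 7 ≤ u := by omega
  rcases hcases with rfl | rfl | hu7
  · have h1 := low_three (n := (X : ℤ) - Z) (t := t) (by rw [ht]; norm_num)
    have h2 : (13 : ℤ) ≤ q := by linarith
    have h3 := hq6 (by have : (13 : ℤ) ≤ q := h2; omega)
    have h4 : (13 : ℤ) ^ 6 ≤ (q : ℤ) ^ 6 := by gcongr
    norm_num at h3 h4
    linarith
  · have h1 := low_five (n := (X : ℤ) - Z) (t := t) (by rw [ht]; norm_num)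
    have h2 : (60 : ℤ) ≤ q := by linarith
    have h3 := hq6 (by have : (60 : ℤ) ≤ q := h2; omega)
    have h4 : (60 : ℤ) ^ 6 ≤ (q : ℤ) ^ 6 := by gcongr
    norm_num at h3 h4
    linarith
  · have hx : (7 : ℤ) ≤ u := by exact_mod_cast hu7
    have h1 := low_two hx ht
    have h2 : 2 * (u : ℤ) ^ 4 ≤ 7 * ((q : ℤ) + 1) := h1.trans habs
    have h4 : (7 : ℤ) ^ 4 ≤ (u : ℤ) ^ 4 := by gcongr
    norm_num at h4
    have h3 : (7 : ℤ) ≤ q := by linarith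
    exact fin_one (by linarith) h2 (hq6 (by omega))

end Cfsg.Agent.H500.E7
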