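import Cfsg.Agent.H416.Arith
import Cfsg.Agent.H500.E7.FE8
import Cfsg.Agent.H627.E7.Num

/-!
# Number theory for `E₈(u)` in S3482 (helper500)

`F_i` (`i = 15, 20, 24, 30`) : `F_i (1 - 2 u² (u² - 1)) ≡ 1` modulo `u (u² - 1)²`.
-/

set_option autoImplicit false

namespace Cfsg.Agent.H500.E7

open Cfsg.Agent.H436

theorem mem_I8 {i : ℕ} : i ∈ I8 ↔ i = 15 ∨ i = 20 ∨ i = 24 ∨ i = 30 := by simp [I8]

theorem eval_20 (x : ℤ) : (Polynomial.cyclotomic 20 ℤ).eval x = x ^ 8 - x ^ 6 + x ^ 4 - x ^ 2 + 1 := by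
  have h4 : ∀ y : ℤ, (Polynomial.cyclotomic 4 ℤ).eval y = y ^ 2 + 1 := by
    intro y
    rw [show (4 : ℕ) = 2 ^ (1 + 1) by norm_num, Polynomial.cyclotomic_prime_pow_eq_geom_sum Nat.prime_two]
    simp [Finset.sum_range_succ]; ring
  have h := Cfsg.Agent.Lib.Zsigmondy.eval_cyclotomic_mul (r := 5) (m := 4) Nat.prime_five (by norm_num) x
  rw [h4, h4] at h
  have h0 : x ^ 2 + 1 ≠ 0 := by positivity
  apply mul_right_cancel₀ h0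
  rw [show (20 : ℕ) = 4 * 5 by norm_num, ← h]
  ring

variable {u : ℕ}

theorem cast15 (hu : 2 ≤ u) : ((Ph 15 u : ℕ) : ℤ) = (u : ℤ) ^ 8 - (u : ℤ) ^ 7 + (u : ℤ) ^ 5 - (u : ℤ) ^ 4 + (u : ℤ) ^ 3 -
    (u : ℤ) + 1 := (Cfsg.Agent.H416.Arith.cast_c 15 hu).trans (Cfsg.Agent.H416.Arith.eval_15 _)

theorem cast20 (hu : 2 ≤ u) : ((Ph 20 u : ℕ) : ℤ) = (u : ℤ) ^ 8 - (u : ℤ) ^ 6 + (u : ℤ) ^ 4 - (u : ℤ) ^ 2 + 1 :=
  (Cfsg.Agent.H416.Arith.cast_c 20 hu).trans (eval_20 _)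

theorem cast24 (hu : 2 ≤ u) : ((Ph 24 u : ℕ) : ℤ) = (u : ℤ) ^ 8 - (u : ℤ) ^ 4 + 1 :=
  (Cfsg.Agent.H416.Arith.cast_c 24 hu).trans (Cfsg.Agent.H416.Arith.eval_24 _)

theorem cast30 (hu : 2 ≤ u) : ((Ph 30 u : ℕ) : ℤ) = (u : ℤ) ^ 8 + (u : ℤ) ^ 7 - (u : ℤ) ^ 5 - (u : ℤ) ^ 4 - (u : ℤ) ^ 3 +
    (u : ℤ) + 1 := (Cfsg.Agent.H416.Arith.cast_c 30 hu).trans (Cfsg.Agent.H416.Arith.eval_30 _)

/-- the modulus -/
def MM (x : ℤ) : ℤ := x * (x ^ 2 - 1) ^ 2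

/-- the inverse of `F_i` modulo `MM` -/
def ee (x : ℤ) : ℤ := 1 - 2 * x ^ 2 * (x ^ 2 - 1)

theorem Ph_mul {i : ℕ} (hi : i ∈ I8) (hu : 2 ≤ u) : ∃ h : ℤ, (Ph i u : ℤ) * ee u = 1 + MM u * h := by
  rw [mem_I8] at hi
  unfold ee MM
  rcases hi with rfl | rfl | rfl | rfl
  · exact ⟨-2 * (u : ℤ) ^ 7 + 2 * (u : ℤ) ^ 6 - 2 * (u : ℤ) ^ 5 + (u : ℤ) ^ 3 - 3 * (u : ℤ) ^ 2 + 2 * (u : ℤ) - 1, by
      rw [cast15 hu]; ring⟩
  · exact ⟨-2 * (u : ℤ) ^ 7 - (u : ℤ) ^ 3 + (u : ℤ), by rw [cast20 hu]; ring⟩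
  · exact ⟨-2 * (u : ℤ) ^ 7 - 2 * (u : ℤ) ^ 5 + (u : ℤ) ^ 3 + 2 * (u : ℤ), by rw [cast24 hu]; ring⟩
  · exact ⟨-2 * (u : ℤ) ^ 7 - 2 * (u : ℤ) ^ 6 - 2 * (u : ℤ) ^ 5 + (u : ℤ) ^ 3 + 3 * (u : ℤ) ^ 2 + 2 * (u : ℤ) + 1, by
      rw [cast30 hu]; ring⟩

/-- **the congruence** -/
theorem key {a c : ℕ} (ha : a ∈ I8) (hc : c ∈ I8) (hu : 2 ≤ u) {X Z δ : ℤ}
    (h : X * (Ph a u : ℤ) - Z * (Ph c u : ℤ) = δ) : ∃ t : ℤ, X - Z = δ * ee u + MM u * t := by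
  obtain ⟨s, hs⟩ := Ph_mul ha hu
  obtain ⟨t, ht⟩ := Ph_mul hc hu
  refine ⟨Z * t - X * s, ?_⟩
  have h1 : X * ((Ph a u : ℤ) * ee u) - Z * ((Ph c u : ℤ) * ee u) = δ * ee u := by rw [← h]; ring
  rw [hs, ht] at h1
  linarith

theorem Ph_bd {i : ℕ} (hi : i ∈ I8) (hu : 2 ≤ u) :
    (u : ℤ) ^ 7 * ((u : ℤ) - 1) ≤ (Ph i u : ℤ) ∧ (Ph i u : ℤ) ≤ (u : ℤ) ^ 7 * ((u : ℤ) + 1) := by
  have h1 : (2 : ℤ) ≤ u := by exact_mod_cast hu
  obtain ⟨t, ht⟩ : ∃ t : ℕ, u = t + 2 := ⟨u - 2, by omega⟩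
  have ht' : (u : ℤ) = (t : ℤ) + 2 := by rw [ht]; push_cast; ring
  have ht0 : (0 : ℤ) ≤ t := Int.natCast_nonneg t
  rw [mem_I8] at hi
  rcases hi with rfl | rfl | rfl | rfl
  · rw [cast15 hu, ht']
    constructor <;> (rw [← sub_nonneg]; ring_nf; positivity)
  · rw [cast20 hu, ht']
    constructor <;> (rw [← sub_nonneg]; ring_nf; positivity)
  · rw [cast24 hu, ht']
    constructor <;> (rw [← sub_nonneg]; ring_nf; positivity)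
  · rw [cast30 hu, ht']
    constructor <;> (rw [← sub_nonneg]; ring_nf; positivity)

/-- lower bounds -/
theorem low_one {x n t : ℤ} (hx : 5 ≤ x) (h : n = ee x + MM x * t) : 2 * x ^ 2 * (x ^ 2 - 1) - 1 ≤ |n| := by
  have h2 : 25 ≤ x ^ 2 := by nlinarith
  have h3 : 0 ≤ x * (x ^ 2 - 1) := by nlinarith
  rcases le_or_gt t 0 with ht | ht
  · have h4 : n ≤ ee x := by
      rw [h]
      have : MM x * t ≤ 0 := by
        refine mul_nonpos_of_nonneg_of_nonpos ?_ ht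
        unfold MM
        positivity
      linarith
    have h5 := neg_abs_le n
    unfold ee at h4
    linarith
  · have h4 : ee x + MM x ≤ n := by
      rw [h]
      have : MM x * 1 ≤ MM x * t := by
        refine mul_le_mul_of_nonneg_left (by omega) ?_
        unfold MM
        positivity
      linarith
    have h5 := le_abs_self n
    have h6 : 2 * x ^ 2 * (x ^ 2 - 1) - 1 ≤ ee x + MM x := by
      unfold ee MM
      have h7 : 0 ≤ (x * (x ^ 2 - 1)) * (x ^ 2 - 4 * x - 1) := by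
        refine mul_nonneg h3 ?_
        nlinarith
      nlinarith
    linarith

theorem low_two {x n t : ℤ} (hx : 7 ≤ x) (h : n = 2 * ee x + MM x * t) : 2 * x ^ 4 ≤ |n| := by
  have h2 : 49 ≤ x ^ 2 := by nlinarith
  have h3 : 0 ≤ x * (x ^ 2 - 1) := by nlinarith
  rcases le_or_gt t 0 with ht | ht
  · have h4 : n ≤ 2 * ee x := by
      rw [h]
      have : MM x * t ≤ 0 := by
        refine mul_nonpos_of_nonneg_of_nonpos ?_ ht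
        unfold MM
        positivity
      linarith
    have h5 := neg_abs_le n
    unfold ee at h4
    nlinarith
  · have h4 : 2 * ee x + MM x ≤ n := by
      rw [h]
      have : MM x * 1 ≤ MM x * t := by
        refine mul_le_mul_of_nonneg_left (by omega) ?_
        unfold MM
        positivity
      linarith
    have h5 := le_abs_self n
    have h6 : 2 * x ^ 4 ≤ 2 * ee x + MM x := by
      unfold ee MM
      obtain ⟨t, rfl⟩ : ∃ t : ℤ, x = t + 7 := ⟨x - 7, by ring⟩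
      have ht : 0 ≤ t := by linarith
      rw [← sub_nonneg]
      ring_nf
      positivity
    linarith

theorem low_three {n t : ℤ} (h : n = 2 * ee 3 + MM 3 * t) : 94 ≤ |n| := by
  unfold ee MM at h
  norm_num at h
  rw [le_abs]
  omega

theorem low_five {n t : ℤ} (h : n = 2 * ee 5 + MM 5 * t) : 482 ≤ |n| := by
  unfold ee MM at h
  norm_num at h
  rw [le_abs]
  omega

/-- the final contradiction -/
theorem fin_one {q x : ℤ} (hx : 6 ≤ x) (h1 : 2 * x ^ 4 ≤ 7 * (q + 1)) (h2 : q ^ 6 ≤ 8 * (x ^ 7 * (x + 1))) : False := by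
  have h4 : 1296 ≤ x ^ 4 := by
    have : (6 : ℤ) ^ 4 ≤ x ^ 4 := by gcongr
    linarith
  have h3 : x ^ 4 ≤ 4 * q := by linarith
  have h5 : 324 ≤ q := by linarith
  have h6 : 8 * (x ^ 7 * (x + 1)) ≤ 16 * (x ^ 4 * x ^ 4) := by
    have h7 : 0 ≤ x ^ 7 := by positivity
    have h8 : x + 1 ≤ 2 * x := by linarith
    nlinarith [mul_le_mul_of_nonneg_left h8 h7]
  have h7 : x ^ 4 * x ^ 4 ≤ (4 * q) * (4 * q) := by
    apply mul_le_mul h3 h3 (by positivity) (by linarith)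
  have h8 : q ^ 6 ≤ 256 * q ^ 2 := by nlinarith
  have h9 : (324 : ℤ) ^ 4 ≤ q ^ 4 := by gcongr
  have h10 : 0 < q ^ 2 := by positivity
  have h11 : q ^ 6 = q ^ 4 * q ^ 2 := by ring
  rw [h11] at h8
  have h12 : q ^ 4 ≤ 256 := by
    by_contra hlt
    push Not at hlt
    nlinarith
  norm_num at h9
  linarith

/-- `j = 9` -/
theorem fin_nine {q A B Fb Fc x : ℤ} (hx : 6 ≤ x) (hq : 13 ≤ q) (hB : 0 ≤ B)
    (hb : x ^ 7 * (x - 1) ≤ Fb ∧ Fb ≤ x ^ 7 * (x + 1)) (hc : x ^ 7 * (x - 1) ≤ Fc ∧ Fc ≤ x ^ 7 * (x + 1))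
    (h : A * Fb - B * Fc = 1) (hL : 2 * x ^ 2 * (x ^ 2 - 1) - 1 ≤ |A - B|)
    (hBF : 2 * (B * Fc) ≤ q ^ 9) (hF : q ^ 6 - q ^ 3 + 1 ≤ 3 * Fb) : False := by
  obtain ⟨L, hLdef⟩ : ∃ L, L = 2 * x ^ 2 * (x ^ 2 - 1) - 1 := ⟨_, rfl⟩
  rw [← hLdef] at hL
  have hx2 : 36 ≤ x ^ 2 := by nlinarith
  have hL0 : 0 ≤ L := by
    rw [hLdef]
    nlinarith
  have hx7 : 0 < x ^ 7 := by positivity
  have hFb0 : 0 ≤ Fb := le_trans (mul_nonneg hx7.le (by linarith)) hb.1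
  -- `L (x - 1) ≤ 2 B`
  have h1 : |A - B| * Fb ≤ 1 + B * (2 * x ^ 7) := by
    have e1 : (A - B) * Fb = 1 + B * (Fc - Fb) := by linarith
    have e2 : |A - B| * Fb = |(A - B) * Fb| := by rw [abs_mul, abs_of_nonneg hFb0]
    rw [e2, e1]
    have e3 : |Fc - Fb| ≤ 2 * x ^ 7 := by
      rw [abs_le]
      constructor <;> linarith [hb.1, hb.2, hc.1, hc.2]
    calc |1 + B * (Fc - Fb)| ≤ |1| + |B * (Fc - Fb)| := abs_add_le _ _
      _ = 1 + B * |Fc - Fb| := by rw [abs_one, abs_mul, abs_of_nonneg hB]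
      _ ≤ _ := by linarith [mul_le_mul_of_nonneg_left e3 hB]
  have h2 : L * (x - 1) ≤ 2 * B := by
    have e1 : L * (x ^ 7 * (x - 1)) ≤ 1 + B * (2 * x ^ 7) := by
      calc L * (x ^ 7 * (x - 1)) ≤ |A - B| * Fb :=
            mul_le_mul hL hb.1 (mul_nonneg hx7.le (by linarith)) (abs_nonneg _)
        _ ≤ _ := h1
    have e2 : x ^ 7 * (L * (x - 1) - 2 * B) ≤ 1 := by linarith
    by_contra hlt
    push Not at hlt
    have e3 : x ^ 7 * 1 ≤ x ^ 7 * (L * (x - 1) - 2 * B) := mul_le_mul_of_nonneg_left (by omega) hx7.le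
    have e4 : (6 : ℤ) ^ 7 ≤ x ^ 7 := by gcongr
    norm_num at e4
    linarith
  -- `L (x - 1)² x ^ 7 ≤ q ^ 9`
  have h3 : L * (x - 1) * (x ^ 7 * (x - 1)) ≤ q ^ 9 := by
    have e0 : 0 ≤ x ^ 7 * (x - 1) := mul_nonneg hx7.le (by linarith)
    calc L * (x - 1) * (x ^ 7 * (x - 1)) ≤ 2 * B * (x ^ 7 * (x - 1)) := mul_le_mul_of_nonneg_right h2 e0
      _ ≤ 2 * B * Fc := mul_le_mul_of_nonneg_left hc.1 (by linarith)
      _ = 2 * (B * Fc) := by ring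
      _ ≤ q ^ 9 := hBF
  have hq0 : 0 ≤ q := by linarith
  have h4 : 1000 * q ^ 6 ≤ 3002 * (x ^ 7 * (x + 1)) := by
    have e1 : (13 : ℤ) ^ 3 ≤ q ^ 3 := by gcongr
    norm_num at e1
    have e2 : q ^ 6 = q ^ 3 * q ^ 3 := by ring
    have e3 : 2197 * q ^ 3 ≤ q ^ 3 * q ^ 3 := mul_le_mul_of_nonneg_right e1 (by positivity)
    have e4 := hb.2
    nlinarith
  have h5 : (L * (x - 1) * (x ^ 7 * (x - 1))) ^ 2 ≤ (q ^ 6) ^ 3 := by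
    have e1 : (q ^ 6) ^ 3 = (q ^ 9) ^ 2 := by ring
    rw [e1]
    have e2 : 0 ≤ L * (x - 1) * (x ^ 7 * (x - 1)) := by
      have : 0 ≤ x - 1 := by linarith
      positivity
    exact pow_le_pow_left₀ e2 h3 2
  have h6 : (1000 * q ^ 6) ^ 3 ≤ (3002 * (x ^ 7 * (x + 1))) ^ 3 := pow_le_pow_left₀ (by positivity) h4 3
  have h7 : x ^ 14 * ((L * (x - 1) ^ 2) ^ 2) ≤ x ^ 14 * (28 * (x ^ 7 * (x + 1) ^ 3)) := by
    have e1 : x ^ 14 * ((L * (x - 1) ^ 2) ^ 2) = (L * (x - 1) * (x ^ 7 * (x - 1))) ^ 2 := by ring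
    have e2 : x ^ 14 * (28 * (x ^ 7 * (x + 1) ^ 3)) = 28 * (x ^ 7 * (x + 1)) ^ 3 := by ring
    rw [e1, e2]
    have e3 : 0 ≤ (x ^ 7 * (x + 1)) ^ 3 := by positivity
    have e4 : (1000 * q ^ 6) ^ 3 = 1000000000 * (q ^ 6) ^ 3 := by ring
    have e5 : (3002 * (x ^ 7 * (x + 1))) ^ 3 = 27054036008 * (x ^ 7 * (x + 1)) ^ 3 := by ring
    rw [e4, e5] at h6
    linarith
  have h8 : (L * (x - 1) ^ 2) ^ 2 ≤ 28 * (x ^ 7 * (x + 1) ^ 3) := le_of_mul_le_mul_left h7 (by positivity)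
  rw [hLdef] at h8
  obtain ⟨t, rfl⟩ : ∃ t : ℤ, x = t + 6 := ⟨x - 6, by ring⟩
  have ht : 0 ≤ t := by linarith
  have h9 : 0 < ((2 * (t + 6) ^ 2 * ((t + 6) ^ 2 - 1) - 1) * (t + 6 - 1) ^ 2) ^ 2 - 28 * ((t + 6) ^ 7 * (t + 6 + 1) ^ 3) := by
    ring_nf
    positivity
  linarith

end Cfsg.Agent.H500.E7
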